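import Cfsg.Agent.Bender36.NoReal
import Cfsg.Agent.Bender85.Pairs
import Cfsg.Agent.Lib.Coprime.Action

/-!
A prime that is not exact, when no real element fixes a centre: a Sylow subgroup of a two-point
stabiliser is centralised by a swapper of the two points and by an involution at one of them.
-/

set_option autoImplicit false
set_option linter.style.haveILetI false

namespace Cfsg.Agent.Bender36

open Subgroup MulAction Bender43 Bender43.Fixed Bender85

universe u

variable {G : Type u} [Group G] [Finite G] {H : Subgroup G} {r : ℕ}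

/-- A Sylow subgroup of a two-point stabiliser fixes a third point if the prime is not exact. -/
theorem threeFix_sylow (hC : Ctx H) [Fact r.Prime] (hE : ¬ ExactPrime H r) {a b : G ⧸ H}
    (hab : a ≠ b) (T : Sylow r (stab2 a b : Subgroup G)) :
    ThreeFix H ((T : Subgroup (stab2 a b : Subgroup G)).map (stab2 a b).subtype) := by
  set R := (T : Subgroup (stab2 a b : Subgroup G)).map (stab2 a b).subtype with hR
  by_contra hno
  refine hE fun p q hpq S => ?_
  have hfix : ∀ w ∈ fixSet H R, w = a ∨ w = b := by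
    intro w hw
    by_contra h
    push Not at h
    exact hno ⟨a, fun t ht => mem_stabilizer_iff.1 (mem_inf.1 (map_subtype_le _ ht)).1, b,
      fun t ht => mem_stabilizer_iff.1 (mem_inf.1 (map_subtype_le _ ht)).2, w, hw, hab,
      h.1.symm, h.2.symm⟩
  obtain ⟨g, hga, hgb⟩ := exists_map_pair hC hab hpq
  set K := R.map (MulAut.conj g).toMonoidHom with hK
  have hKD : K ≤ stab2 p q := by
    rintro _ ⟨t, ht, rfl⟩
    have ht' := mem_inf.1 (map_subtype_le _ ht : t ∈ stab2 a b)
    refine mem_inf.2 ⟨?_, ?_⟩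
    · show g * t * g⁻¹ ∈ stabilizer G p
      rw [mem_stabilizer_iff, mul_smul, mul_smul, inv_smul_eq_iff.2 hga.symm,
        mem_stabilizer_iff.1 ht'.1, hga]
    · show g * t * g⁻¹ ∈ stabilizer G q
      rw [mem_stabilizer_iff, mul_smul, mul_smul, inv_smul_eq_iff.2 hgb.symm,
        mem_stabilizer_iff.1 ht'.2, hgb]
  obtain ⟨Q, hQ⟩ := ((((T.isPGroup'.map _ : IsPGroup r R)).map _ : IsPGroup r K).comap_subtype
    (K := stab2 p q)).exists_le_sylow
  obtain ⟨k, hk⟩ := MulAction.exists_smul_eq (stab2 p q : Subgroup G) Q S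
  have hkp := mem_inf.1 k.2
  refine Set.Subset.antisymm (fun w hw => ?_) ?_
  · have hmem : g⁻¹ • (k : G)⁻¹ • w ∈ fixSet H R := by
      intro t ht
      have hin : g * t * g⁻¹ ∈ K := ⟨t, ht, rfl⟩
      have h := hw ((k : G) * (g * t * g⁻¹) * (k : G)⁻¹)
        ⟨k * ⟨_, hKD hin⟩ * k⁻¹, by
          rw [SetLike.mem_coe, ← hk, Sylow.smul_def]
          exact ⟨_, hQ (mem_subgroupOf.2 hin), rfl⟩, rfl⟩
      simp only [mul_smul] at h
      rw [eq_inv_smul_iff, eq_inv_smul_iff]
      exact h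
    rcases hfix _ hmem with h | h
    · rw [inv_smul_eq_iff, inv_smul_eq_iff, hga, mem_stabilizer_iff.1 hkp.1] at h
      exact Or.inl h
    · rw [inv_smul_eq_iff, inv_smul_eq_iff, hgb, mem_stabilizer_iff.1 hkp.2] at h
      exact Or.inr h
  · rintro w (rfl | rfl) t ht
    · exact mem_stabilizer_iff.1 (mem_inf.1 (map_subtype_le _ ht)).1
    · exact mem_stabilizer_iff.1 (mem_inf.1 (map_subtype_le _ ht)).2

/-- For a Sylow subgroup fixing a third point the normaliser is transitive on ordered pairs of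
fixed points. -/
theorem exists_normalizer_pair (hC : Ctx H) [Fact r.Prime] {a b : G ⧸ H} (hab : a ≠ b)
    (T : Sylow r (stab2 a b : Subgroup G)) {x y : G ⧸ H}
    (hx : x ∈ fixSet H ((T : Subgroup (stab2 a b : Subgroup G)).map (stab2 a b).subtype))
    (hy : y ∈ fixSet H ((T : Subgroup (stab2 a b : Subgroup G)).map (stab2 a b).subtype))
    (hxy : x ≠ y) :
    ∃ n ∈ normalizer (((T : Subgroup (stab2 a b : Subgroup G)).map (stab2 a b).subtype :
      Subgroup G) : Set G), n • a = x ∧ n • b = y := by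
  set R := (T : Subgroup (stab2 a b : Subgroup G)).map (stab2 a b).subtype with hR
  obtain ⟨g, hga, hgb⟩ := exists_map_pair hC hab hxy
  set K := R.map (MulAut.conj g⁻¹).toMonoidHom with hK
  have hKD : K ≤ stab2 a b := by
    rintro _ ⟨t, ht, rfl⟩
    refine mem_inf.2 ⟨?_, ?_⟩
    · show g⁻¹ * t * g⁻¹⁻¹ ∈ stabilizer G a
      rw [mem_stabilizer_iff, inv_inv, mul_smul, mul_smul, hga, hx t ht,
        inv_smul_eq_iff, hga]
    · show g⁻¹ * t * g⁻¹⁻¹ ∈ stabilizer G b
      rw [mem_stabilizer_iff, inv_inv, mul_smul, mul_smul, hgb, hy t ht,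
        inv_smul_eq_iff, hgb]
  obtain ⟨Q, hQ⟩ := ((((T.isPGroup'.map _ : IsPGroup r R)).map _ : IsPGroup r K).comap_subtype
    (K := stab2 a b)).exists_le_sylow
  obtain ⟨k, hk⟩ := MulAction.exists_smul_eq (stab2 a b : Subgroup G) Q T
  have hle : R.map (MulAut.conj ((k : G) * g⁻¹)).toMonoidHom ≤ R := by
    rintro _ ⟨t, ht, rfl⟩
    have hin : g⁻¹ * t * g⁻¹⁻¹ ∈ K := ⟨t, ht, rfl⟩
    refine ⟨k * ⟨_, hKD hin⟩ * k⁻¹, ?_, ?_⟩
    · rw [SetLike.mem_coe, ← hk, Sylow.smul_def]
      exact ⟨_, hQ (mem_subgroupOf.2 hin), rfl⟩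
    · simp [mul_assoc]
  have hn : (k : G) * g⁻¹ ∈ normalizer (R : Set G) := by
    rw [mem_normalizer_iff_map_conj_eq]
    exact eq_of_le_of_card_ge hle (Nat.card_congr
      (R.equivMapOfInjective _ (MulAut.conj _).injective).toEquiv).le
  have hka := mem_inf.1 k.2
  refine ⟨((k : G) * g⁻¹)⁻¹, inv_mem hn, ?_, ?_⟩
  · rw [mul_inv_rev, inv_inv, mul_smul, inv_smul_eq_iff.2 (mem_stabilizer_iff.1 hka.1).symm, hga]
  · rw [mul_inv_rev, inv_inv, mul_smul, inv_smul_eq_iff.2 (mem_stabilizer_iff.1 hka.2).symm, hgb]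

/-- A doubly transitive set of fixed points of an odd group contains the centre of an involution
normalising the group. -/
theorem exists_centre_in_fixSet (hC : Ctx H) {X : Subgroup G} (hXodd : Odd (Nat.card X))
    (h3 : ThreeFix H X)
    (h2t : ∀ x ∈ fixSet H X, ∀ y ∈ fixSet H X, x ≠ y → ∀ x' ∈ fixSet H X, ∀ y' ∈ fixSet H X,
      x' ≠ y' → ∃ g ∈ normalizer (X : Set G), g • x = x' ∧ g • y = y')
    {v : G} (hv : v ∈ normalizer (X : Set G)) (hv2 : orderOf v = 2) :
    ∃ t ∈ normalizer (X : Set G), orderOf t = 2 ∧ ∃ p ∈ fixSet H X, t • p = p := by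
  classical
  haveI : Fact (Nat.Prime 2) := ⟨Nat.prime_two⟩
  set N := normalizer (X : Set G) with hN
  by_contra hnone
  push Not at hnone
  obtain ⟨a, ha, b₀, hb₀, d₀, hd₀, hab₀, had₀, hbd₀⟩ := h3
  set b := v • a with hb'
  have hb : b ∈ fixSet H X := smul_mem_fixSet hv ha
  have hab : a ≠ b := fun e => hnone v hv hv2 a ha e.symm
  obtain ⟨d, hd, had, hbd⟩ : ∃ d ∈ fixSet H X, a ≠ d ∧ b ≠ d := by
    rcases eq_or_ne b b₀ with e | e
    · exact ⟨d₀, hd₀, had₀, e ▸ hbd₀⟩
    · exact ⟨b₀, hb₀, hab₀, e⟩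
  have hva : v • a = b := rfl
  -- no two commuting involutions
  have hno : ¬ BenderCons37.RankTwo N := by
    rintro ⟨x, y, hx1, hy1, hne, hxx, hyy, hxy⟩
    have hx2 : orderOf (x : G) = 2 := by
      rw [Subgroup.orderOf_coe, BenderCons37.orderOf_eq_two hx1 hxx]
    have hy2 : orderOf (y : G) = 2 := by
      rw [Subgroup.orderOf_coe, BenderCons37.orderOf_eq_two hy1 hyy]
    have hxy' : (x : G) * y = y * x := congrArg Subtype.val hxy
    obtain ⟨p, hp⟩ := TwoFusionB.exists_fix hC.se hx2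
    have hyp : (y : G) • p = p :=
      TwoFusionB.fix_unique hC.se hx2 (by rw [smul_smul, hxy', mul_smul, hp]) hp
    refine hnone x x.2 hx2 p (fun t ht => ?_) hp
    exact mem_stabilizer_iff.1 (le_stabilizer_of_four hC ⟨hx2, hp⟩ ⟨hy2, hyp⟩
      (fun e => hne (Subtype.ext e)) hxy' hXodd x.2 y.2 ht)
  obtain ⟨O, hOn, hOodd, hcomm⟩ :=
    exists_core_of_no_four hno (v := ⟨v, hv⟩) (by rw [Subgroup.orderOf_mk, hv2])
  have hstab : ∀ o : O, ((o : N) : G) • a = a := by
    intro o
    by_contra ho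
    -- otherwise the orbit of `a` is the whole fixed point set, of odd size
    have hmemF : ∀ o : O, ((o : N) : G) • a ∈ fixSet H X := fun o => smul_mem_fixSet (o : N).2 ha
    have horb : orbit O a = fixSet H X := by
      refine Set.Subset.antisymm ?_ fun e he => ?_
      · rintro _ ⟨o', rfl⟩
        exact hmemF o'
      · by_cases hea : e = a
        · exact ⟨1, by rw [hea]; exact one_smul O a⟩
        obtain ⟨g, hg, hga, hge⟩ :=
          h2t a ha _ (hmemF o) (Ne.symm ho) a ha e he (Ne.symm hea)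
        refine ⟨⟨⟨g, hg⟩ * (o : N) * ⟨g, hg⟩⁻¹, hOn.conj_mem _ o.2 _⟩, ?_⟩
        show (g * ((o : N) : G) * g⁻¹) • a = e
        rw [mul_smul, mul_smul, inv_smul_eq_iff.2 hga.symm, hge]
    have hFodd : ¬ 2 ∣ (fixSet H X).ncard := by
      rw [← horb, ← Nat.card_coe_set_eq, ← even_iff_two_dvd, Nat.not_even_iff_odd]
      refine hOodd.of_dvd_nat ?_
      rw [Nat.card_congr (orbitEquivQuotientStabilizer O a)]
      exact Subgroup.index_dvd_card _
    have hvp : (MulAction.toPerm v : Equiv.Perm (G ⧸ H)) ^ 2 = 1 := by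
      rw [pow_two]
      ext e
      show v • v • e = e
      rw [← mul_smul, TwoFusionB.sq_eq_one_of_inv hv2, one_smul]
    obtain ⟨p, hp, hvfix⟩ := OddTrans.exists_fixed_of_invariant hvp (s := fixSet H X)
      (fun e => ⟨fun he => by
          have h : v • (v • e) ∈ fixSet H X := smul_mem_fixSet hv he
          rwa [← mul_smul, TwoFusionB.sq_eq_one_of_inv hv2, one_smul] at h,
        fun he => smul_mem_fixSet hv he⟩) hFodd
    exact hnone v hv hv2 p hp hvfix
  -- so the involution commutes with the action, and the third point is the image of `a` as well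
  obtain ⟨g, hg, hga, hgb⟩ := h2t a ha b hb hab a ha d hd had
  have ho := hcomm ⟨g, hg⟩
  have e1 := hstab ⟨_, ho⟩
  push_cast at e1
  rw [mul_smul, mul_smul, mul_smul, inv_smul_eq_iff.2 hga.symm] at e1
  have e2 : v⁻¹ • a = b := by rw [TwoFusionB.inv_eq_of_inv hv2, hva]
  rw [e2, hgb] at e1
  exact hbd (hva.symm.trans (by rw [← e1, smul_smul, TwoFusionB.sq_eq_one_of_inv hv2, one_smul]))

/-- A Sylow subgroup of a two-point stabiliser normalised by a swapper, for a prime that is not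
exact: it fixes the centre, is normalised by an involution at either point, and its normaliser
carries the pair to either point and the centre. -/
theorem inexact_sylow (hC : Ctx H) (hr : r.Prime) (hE : ¬ ExactPrime H r) {v : G} {a b c : G ⧸ H}
    (hs : Swap H v a b c) (T : Sylow r (stab2 a b : Subgroup G))
    (hvR : v ∈ normalizer (((T : Subgroup (stab2 a b : Subgroup G)).map (stab2 a b).subtype :
      Subgroup G) : Set G)) :
    c ∈ fixSet H ((T : Subgroup (stab2 a b : Subgroup G)).map (stab2 a b).subtype) ∧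
      (∃ t ∈ invAt H a, t ∈ normalizer (((T : Subgroup (stab2 a b : Subgroup G)).map
        (stab2 a b).subtype : Subgroup G) : Set G)) ∧
      ∃ g ∈ normalizer (((T : Subgroup (stab2 a b : Subgroup G)).map (stab2 a b).subtype :
        Subgroup G) : Set G), g • a = a ∧ g • b = c := by
  classical
  haveI := Fact.mk hr
  have hodd : Odd (Nat.card (stab2 a b : Subgroup G)) := odd_stab2 hC.se hs.ne
  set R := (T : Subgroup (stab2 a b : Subgroup G)).map (stab2 a b).subtype with hR
  have hRodd : Odd (Nat.card R) := hodd.of_dvd_nat (card_dvd_of_le (map_subtype_le _))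
  have h3 := threeFix_sylow hC hE hs.ne T
  have ha : a ∈ fixSet H R := fun t ht => mem_stabilizer_iff.1 (mem_inf.1 (map_subtype_le _ ht)).1
  have h2t : ∀ x ∈ fixSet H R, ∀ y ∈ fixSet H R, x ≠ y → ∀ x' ∈ fixSet H R, ∀ y' ∈ fixSet H R,
      x' ≠ y' → ∃ g ∈ normalizer (R : Set G), g • x = x' ∧ g • y = y' := by
    intro x hx y hy hxy x' hx' y' hy' hxy'
    obtain ⟨m, hm, hma, hmb⟩ := exists_normalizer_pair hC hs.ne T hx hy hxy
    obtain ⟨n, hn, hna, hnb⟩ := exists_normalizer_pair hC hs.ne T hx' hy' hxy'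
    exact ⟨n * m⁻¹, mul_mem hn (inv_mem hm),
      by rw [mul_smul, inv_smul_eq_iff.2 hma.symm, hna],
      by rw [mul_smul, inv_smul_eq_iff.2 hmb.symm, hnb]⟩
  obtain ⟨t₀, ht₀, ht₀2, p, hp, ht₀p⟩ := exists_centre_in_fixSet hC hRodd h3 h2t hvR hs.inv
  have hperm : ∀ {w : G}, orderOf w = 2 →
      (MulAction.toPerm w : Equiv.Perm (G ⧸ H)) ^ 2 = 1 := by
    intro w hw
    rw [pow_two]
    ext e
    show w • w • e = e
    rw [← mul_smul, TwoFusionB.sq_eq_one_of_inv hw, one_smul]
  have hinvF : ∀ {w : G}, orderOf w = 2 → w ∈ normalizer (R : Set G) →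
      ∀ e, w • e ∈ fixSet H R ↔ e ∈ fixSet H R := by
    intro w hw hwR e
    refine ⟨fun he => ?_, fun he => smul_mem_fixSet hwR he⟩
    have h : w • (w • e) ∈ fixSet H R := smul_mem_fixSet hwR he
    rwa [← mul_smul, TwoFusionB.sq_eq_one_of_inv hw, one_smul] at h
  -- the fixed point set is odd, so contains the centre of the swapper
  have hcF : c ∈ fixSet H R := by
    by_contra hcF
    haveI : Fact (Nat.Prime 2) := ⟨Nat.prime_two⟩
    have h1 : 2 ∣ (fixSet H R).ncard := by
      by_contra h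
      obtain ⟨e, he, hve⟩ := OddTrans.exists_fixed_of_invariant (hperm hs.inv)
        (hinvF hs.inv hvR) h
      exact hcF (TwoFusionB.fix_unique hC.se hs.inv hve hs.centre ▸ he)
    have h2 : 2 ∣ (fixSet H R \ {p}).ncard := by
      by_contra h
      obtain ⟨e, he, hve⟩ := OddTrans.exists_fixed_of_invariant (hperm ht₀2)
        (s := fixSet H R \ {p}) (fun e => by
          show t₀ • e ∈ fixSet H R \ {p} ↔ _
          simp only [Set.mem_sdiff, Set.mem_singleton_iff, hinvF ht₀2 ht₀ e]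
          refine and_congr_right fun _ => not_congr ⟨fun h => ?_, fun h => by rw [h, ht₀p]⟩
          exact smul_left_cancel t₀ (h.trans ht₀p.symm)) h
      exact he.2 (TwoFusionB.fix_unique hC.se ht₀2 hve ht₀p)
    rw [Set.ncard_sdiff_singleton_of_mem hp] at h2
    have h0 : 0 < (fixSet H R).ncard := (Set.ncard_pos).2 ⟨p, hp⟩
    omega
  obtain ⟨t, ht, ht2, hta⟩ : ∃ t ∈ normalizer (R : Set G), orderOf t = 2 ∧ t • a = a := by
    rcases eq_or_ne p a with rfl | h
    · exact ⟨t₀, ht₀, ht₀2, ht₀p⟩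
    · obtain ⟨n, hn, hnp, -⟩ := h2t p hp a ha h a ha p hp (Ne.symm h)
      refine ⟨n * t₀ * n⁻¹, mul_mem (mul_mem hn ht₀) (inv_mem hn),
        by rw [TwoFusionB.orderOf_conj_eq, ht₀2], ?_⟩
      rw [mul_smul, mul_smul, inv_smul_eq_iff.2 hnp.symm, ht₀p, hnp]
  obtain ⟨g, hg, hga, hgb⟩ := exists_normalizer_pair hC hs.ne T ha hcF hs.ne_left.symm
  exact ⟨hcF, ⟨t, ⟨ht2, hta⟩, ht⟩, g, hg, hga, hgb⟩

/-- A prime that is not exact has, for every swapper, an invariant Sylow subgroup of the two-point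
stabiliser centralised by the swapper and by an involution at either point. -/
theorem exists_centralized_sylow (hC : Ctx H) (hN : NoRealFixed H) (hr : r.Prime)
    (hE : ¬ ExactPrime H r) {v : G} {a b c : G ⧸ H} (hs : Swap H v a b c) :
    ∃ T : Sylow r (stab2 a b : Subgroup G),
      v ∈ centralizer (((T : Subgroup (stab2 a b : Subgroup G)).map (stab2 a b).subtype :
        Subgroup G) : Set G) ∧
      ∃ t ∈ invAt H a,
        t ∈ centralizer (((T : Subgroup (stab2 a b : Subgroup G)).map (stab2 a b).subtype :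
          Subgroup G) : Set G) := by
  haveI := Fact.mk hr
  have hodd : Odd (Nat.card (stab2 a b : Subgroup G)) := odd_stab2 hC.se hs.ne
  obtain ⟨T, hT⟩ := Coprime.exists_invariant_sylow (zpowers v) (stab2 a b)
    (zpowers_le.2 (norm_stab2 hs.inv hs.swap))
    (by rw [Nat.card_zpowers, hs.inv]; exact Nat.coprime_two_left.2 hodd)
    (Or.inr (solvable_of_odd hodd)) r
  obtain ⟨hcF, ⟨t, ⟨ht2, hta⟩, ht⟩, -⟩ := inexact_sylow hC hr hE hs T (hT (mem_zpowers v))
  have hG := goodAt_of_noRealFixed hC hN r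
  have h3 := threeFix_sylow hC hE hs.ne T
  exact ⟨T, hG _ (T.isPGroup'.map _) h3 v hs.inv (hT (mem_zpowers v)) ⟨c, hcF, hs.centre⟩, t,
    ⟨ht2, hta⟩, hG _ (T.isPGroup'.map _) h3 t ht2 ht
      ⟨a, fun x hx => mem_stabilizer_iff.1 (mem_inf.1 (map_subtype_le _ hx)).1, hta⟩⟩

/-- A non-trivial `r`-subgroup of a two-point stabiliser, normalised by it and by a swapper, with a
third fixed point gives commuting involutions, if `r` is good. -/
theorem comm_of_member (hC : Ctx H) (hr : r.Prime) (hG : GoodAt H r)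
    (hCen : ExactPrime H r → CentredAt H r)
    (hnormal : ∀ (v : G) (a b c : G ⧸ H), Swap H v a b c → ∀ X : Subgroup G, X ≠ ⊥ →
      X ≤ stab2 a b → stab2 a b ≤ normalizer (X : Set G) → v ∈ normalizer (X : Set G) →
      ∀ t ∈ invAt H a, t ∈ normalizer (X : Set G) → Comm H)
    {v : G} {a b c : G ⧸ H} (hs : Swap H v a b c) {X : Subgroup G} (hX : IsPGroup r X)
    (hX1 : X ≠ ⊥) (hXD : X ≤ stab2 a b) (hDX : stab2 a b ≤ normalizer (X : Set G))
    (hvX : v ∈ normalizer (X : Set G)) (h3 : ThreeFix H X) : Comm H := by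
  haveI := Fact.mk hr
  have ha : a ∈ fixSet H X := fun t ht => mem_stabilizer_iff.1 (mem_inf.1 (hXD ht)).1
  obtain ⟨t, ht, htX⟩ : ∃ t ∈ invAt H a, t ∈ centralizer (X : Set G) := by
    by_cases hE : ExactPrime H r
    · obtain ⟨t, ht2, hta, htX⟩ := hCen hE X hX h3 a ha
      exact ⟨t, ⟨ht2, hta⟩, htX⟩
    have hodd : Odd (Nat.card (stab2 a b : Subgroup G)) := odd_stab2 hC.se hs.ne
    obtain ⟨T, hXT, hT⟩ := Coprime.exists_invariant_sylow_ge (zpowers v) (stab2 a b)
      (zpowers_le.2 (norm_stab2 hs.inv hs.swap))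
      (by rw [Nat.card_zpowers, hs.inv]; exact Nat.coprime_two_left.2 hodd)
      (Or.inr (solvable_of_odd hodd)) r X hXD hX (zpowers_le.2 hvX)
    obtain ⟨-, ⟨t, ⟨ht2, hta⟩, ht⟩, -⟩ := inexact_sylow hC hr hE hs T (hT (mem_zpowers v))
    exact ⟨t, ⟨ht2, hta⟩, centralizer_le hXT (hG _ (T.isPGroup'.map _)
      (threeFix_sylow hC hE hs.ne T) t ht2 ht
      ⟨a, fun x hx => mem_stabilizer_iff.1 (mem_inf.1 (map_subtype_le _ hx)).1, hta⟩)⟩
  exact hnormal v a b c hs X hX1 hXD hDX hvX t ht (centralizer_le_normalizer _ htX)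

end Cfsg.Agent.Bender36
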