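import Cfsg.Agent.Bender36.Inexact
import Cfsg.Agent.Bender85.OpenCore

/-!
The exact case of Bender's reduction: without real elements fixing centres, in particular with one
exact abelian good prime, the involutions of `H` commute.
-/

set_option autoImplicit false
set_option linter.style.haveILetI false

namespace Cfsg.Agent.Bender36

open Subgroup MulAction Bender43 Bender43.Fixed Bender85

universe u

variable {G : Type u} [Group G] [Finite G] {H : Subgroup G}

/-- An exact abelian subgroup makes the prime exact. -/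
theorem exactPrime_of_exactAbelian' {r : ℕ} [Fact r.Prime] (hA : ExactAbelian H r) :
    ExactPrime H r := by
  intro a b hab T
  obtain ⟨A, hAD, hAp, -, hAn, hfix⟩ := hA a b hab
  refine Set.Subset.antisymm ?_ ?_
  · rw [← hfix]
    refine fixSet_anti fun x hx => ?_
    have hn : (A.subgroupOf (stab2 a b)).Normal :=
      (normal_subgroupOf_iff_le_normalizer hAD).2 hAn
    obtain ⟨Q, hQ⟩ := (hAp.comap_subtype (K := stab2 a b)).exists_le_sylow
    obtain ⟨k, hk⟩ := MulAction.exists_smul_eq (stab2 a b : Subgroup G) Q T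
    refine ⟨⟨x, hAD hx⟩, ?_, rfl⟩
    rw [SetLike.mem_coe, ← hk, Sylow.smul_def]
    refine ⟨k⁻¹ * ⟨x, hAD hx⟩ * k, hQ ?_, ?_⟩
    · simpa using hn.conj_mem _ (mem_subgroupOf.2 hx) k⁻¹
    · simp [mul_assoc]
  · rintro w (rfl | rfl) t ht
    · exact mem_stabilizer_iff.1 (mem_inf.1 (map_subtype_le _ ht)).1
    · exact mem_stabilizer_iff.1 (mem_inf.1 (map_subtype_le _ ht)).2

/-- Without real elements fixing centres the involutions of `H` commute. -/
theorem comm_of_noRealFixed (hC : Ctx H) (hN : NoRealFixed H)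
    (hTee : ∀ r : ℕ, r.Prime → ExactPrime H r → GoodAt H r → CentredAt H r)
    (hnormal : ∀ (v : G) (a b c : G ⧸ H), Swap H v a b c → ∀ X : Subgroup G, X ≠ ⊥ →
      X ≤ stab2 a b → stab2 a b ≤ normalizer (X : Set G) → v ∈ normalizer (X : Set G) →
      ∀ t ∈ invAt H a, t ∈ normalizer (X : Set G) → Comm H) : Comm H := by
  classical
  by_cases hO : OpenCore H
  · refine comm_of_openCore hC hO hN fun r hr hA => ?_
    haveI := Fact.mk hr
    exact hTee r hr (exactPrime_of_exactAbelian' hA) (goodAt_of_noRealFixed hC hN r)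
  unfold OpenCore at hO
  push Not at hO
  obtain ⟨v, a, b, c, hs, X, hXD, hX1, hDX, hvX, hfix⟩ := hO
  have hodd : Odd (Nat.card (stab2 a b : Subgroup G)) := odd_stab2 hC.se hs.ne
  have hXodd : Odd (Nat.card X) := hodd.of_dvd_nat (card_dvd_of_le hXD)
  haveI : Group.IsSolvable X := solvable_of_odd hXodd
  haveI : Nontrivial X := (Subgroup.nontrivial_iff_ne_bot X).2 hX1
  obtain ⟨r, hr, hcore⟩ : ∃ r : ℕ, r.Prime ∧ Cfsg.pCore r X ≠ ⊥ := by
    obtain ⟨M, hM⟩ := Fitting.exists_isMinNormal (G := X)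
    obtain ⟨r, hr, hel⟩ := hM.exists_isElementaryAbelian_of_isSolvable
    exact ⟨r, hr, fun h => hM.2.1 (le_bot_iff.1
      ((Thompson.le_pCore hM.1 (Fitting.isPGroup_of_isElementaryAbelian hel)).trans h.le))⟩
  have hne : op r X ≠ ⊥ := fun h =>
    hcore ((Subgroup.map_eq_bot_iff_of_injective _ X.subtype_injective).1 h)
  haveI := Fact.mk hr
  set Y := op r X with hY
  have hYX : Y ≤ X := op_le r X
  have hnorm : ∀ g ∈ normalizer (X : Set G), g ∈ normalizer (Y : Set G) := fun g hg =>
    OddLocal43.normalizes_map_characteristic (Cfsg.pCore r X) hg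
  have h3 : ThreeFix H Y := by
    have ha : a ∈ fixSet H X := fun t ht => mem_stabilizer_iff.1 (mem_inf.1 (hXD ht)).1
    have hb : b ∈ fixSet H X := fun t ht => mem_stabilizer_iff.1 (mem_inf.1 (hXD ht)).2
    obtain ⟨d, hd, hda, hdb⟩ : ∃ d ∈ fixSet H X, d ≠ a ∧ d ≠ b := by
      by_contra hno
      push Not at hno
      refine hfix (Set.Subset.antisymm (fun w hw => ?_) ?_)
      · by_cases h : w = a
        · exact Or.inl h
        · exact Or.inr (hno w hw h)
      · rintro w (rfl | rfl)
        · exact ha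
        · exact hb
    exact ⟨a, fixSet_anti hYX ha, b, fixSet_anti hYX hb, d, fixSet_anti hYX hd, hs.ne, hda.symm,
      hdb.symm⟩
  exact comm_of_member hC hr (goodAt_of_noRealFixed hC hN r)
    (fun hE => hTee r hr hE (goodAt_of_noRealFixed hC hN r)) hnormal hs (op_isPGroup r X) hne
    (hYX.trans hXD) (fun g hg => hnorm g (hDX hg)) (hnorm v hvX) h3

/-- One exact abelian good prime gives commuting involutions. -/
theorem comm_of_exact (hC : Ctx H) {s : ℕ} (hs : s.Prime) (hA : ExactAbelian H s)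
    (hG : GoodAt H s) (hTee : ∀ r : ℕ, r.Prime → ExactPrime H r → GoodAt H r → CentredAt H r)
    (hnormal : ∀ (v : G) (a b c : G ⧸ H), Swap H v a b c → ∀ X : Subgroup G, X ≠ ⊥ →
      X ≤ stab2 a b → stab2 a b ≤ normalizer (X : Set G) → v ∈ normalizer (X : Set G) →
      ∀ t ∈ invAt H a, t ∈ normalizer (X : Set G) → Comm H) : Comm H :=
  comm_of_noRealFixed hC (noRealFixed_of_exact hC hs hA hG) hTee hnormal

end Cfsg.Agent.Bender36
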