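import Cfsg.Agent.Bender85.Real

/-!
One exact abelian good prime excludes non-trivial elements of a two-point stabiliser that fix the
centre of a swapper and are inverted by it.  Consequently every prime is good.
-/

set_option autoImplicit false
set_option linter.style.haveILetI false

namespace Cfsg.Agent.Bender36

open Subgroup MulAction Bender43 Bender43.Fixed Bender85

universe u

variable {G : Type u} [Group G] [Finite G] {H : Subgroup G}

omit [Finite G] in
/-- A non-trivial odd order element is not its own inverse. -/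
theorem eq_one_of_inv_eq {x : G} (hodd : Odd (orderOf x)) (h : x = x⁻¹) : x = 1 := by
  have h2 : x ^ 2 = 1 := by rw [pow_two, ← mul_inv_cancel x, ← h]
  have hd : orderOf x ∣ Nat.gcd (orderOf x) 2 :=
    Nat.dvd_gcd dvd_rfl (orderOf_dvd_of_pow_eq_one h2)
  rw [(Nat.coprime_two_right.2 hodd : Nat.gcd (orderOf x) 2 = 1), Nat.dvd_one] at hd
  exact orderOf_eq_one_iff.1 hd

/-- An `s`-group fixing a point fixes another one, if some `s`-group fixes exactly two. -/
theorem exists_second_fixed {s : ℕ} [hs : Fact s.Prime] {A R : Subgroup G} (hA : IsPGroup s A)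
    (hR : IsPGroup s R) {a b c : G ⧸ H} (hab : a ≠ b) (hfA : fixSet H A = {a, b})
    (hc : c ∈ fixSet H R) : ∃ p ∈ fixSet H R, p ≠ c := by
  classical
  by_contra hno
  push Not at hno
  have hone : ∀ K : Subgroup G, MulAction.fixedPoints K (G ⧸ H) = fixSet H K := fun K => by
    ext x
    exact ⟨fun h t ht => h ⟨t, ht⟩, fun h t => h t t.2⟩
  have e1 := hA.card_modEq_card_fixedPoints (G ⧸ H)
  have e2 := hR.card_modEq_card_fixedPoints (G ⧸ H)
  have hfR : fixSet H R = {c} := Set.Subset.antisymm (fun p hp => hno p hp)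
    (Set.singleton_subset_iff.2 hc)
  rw [Nat.card_coe_set_eq, hone, hfA, Set.ncard_pair hab] at e1
  rw [Nat.card_coe_set_eq, hone, hfR, Set.ncard_singleton] at e2
  have h12 : 1 ≡ 2 [MOD s] := e2.symm.trans e1
  exact hs.out.ne_one (Nat.dvd_one.1 ((Nat.modEq_iff_dvd' one_le_two).1 h12))

/-- One exact abelian good prime excludes real elements fixing centres. -/
theorem noRealFixed_of_exact (hC : Ctx H) {s : ℕ} (hs : s.Prime) (hA : ExactAbelian H s)
    (hG : GoodAt H s) : NoRealFixed H := by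
  haveI := Fact.mk hs
  intro u x a b c hu hxa hxb hxc hxu
  by_contra hx1
  have huu : u * u = 1 := TwoFusionB.sq_eq_one_of_inv hu.inv
  have hui : u⁻¹ = u := TwoFusionB.inv_eq_of_inv hu.inv
  set S := op s (stab2 a b) with hSdef
  have huS : u ∈ normalizer (S : Set G) :=
    OddLocal43.normalizes_map_characteristic (Cfsg.pCore s (stab2 a b))
      (norm_stab2 hu.inv hu.swap)
  -- an element of `S` moving `c` and inverted by `u`
  obtain ⟨y, hy, hyu, hyc⟩ : ∃ y ∈ S, u * y * u = y⁻¹ ∧ y • c ≠ c := by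
    obtain ⟨y₀, hy₀, hy₀c⟩ := exists_move_core hA hu.ne hu.ne_left hu.ne_right
    have hy₀' : u * y₀ * u ∈ S := by
      have h := (mem_normalizer_iff.1 huS y₀).1 hy₀
      rwa [hui] at h
    have hinv : u * (y₀⁻¹ * (u * y₀ * u)) * u = (y₀⁻¹ * (u * y₀ * u))⁻¹ := by
      rw [mul_inv_rev, mul_inv_rev, mul_inv_rev, inv_inv, hui]
      simp [mul_assoc, huu]
    refine ⟨_, mul_mem (inv_mem hy₀) hy₀', hinv, fun hfix => ?_⟩
    set y := y₀⁻¹ * (u * y₀ * u) with hydef
    have hyS : y ∈ S := mul_mem (inv_mem hy₀) hy₀'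
    have hodd : Odd (orderOf y) :=
      RankOne.odd_orderOf_of_mem (odd_stab2 hC.se hu.ne) (op_le _ _ hyS)
    have hcomm := mem_centralizer_iff.1 (swap_centralizes hG hu (Y := zpowers y)
      ((op_isPGroup s _).to_le (zpowers_le.2 hyS))
      (zpowers_le.2 (mem_inf.2 ⟨op_le _ _ hyS, mem_stabilizer_iff.2 hfix⟩))
      (mem_normalizer_of_conj hu.inv fun g hg => by
        obtain ⟨k, rfl⟩ := hg
        rw [← conj_zpow, hui, hinv]
        exact zpow_mem (inv_mem (mem_zpowers y)) k)) y (mem_zpowers y)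
    have hy1 : y = 1 := eq_one_of_inv_eq hodd (by
      rw [← hinv, ← hcomm, mul_assoc, huu, mul_one])
    -- then `y₀` commutes with `u`, so fixes its centre
    refine hy₀c (TwoFusionB.fix_unique hC.se hu.inv (x := y₀ • c) ?_ hu.centre)
    have e : y₀ = u * y₀ * u := inv_mul_eq_one.1 hy1
    have e' : u * y₀ = y₀ * u := by
      calc u * y₀ = u * (u * y₀ * u) := by rw [← e]
        _ = (u * u) * (y₀ * u) := by group
        _ = y₀ * u := by rw [huu, one_mul]
    rw [smul_smul, e', mul_smul, hu.centre]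
  have hxD : x ∈ stab2 a b :=
    mem_inf.2 ⟨mem_stabilizer_iff.2 hxa, mem_stabilizer_iff.2 hxb⟩
  have hodd := odd_centralizer hC hs hA hG hu hxD hxc hxu hx1
  have hyx : x * y = y * x :=
    (mem_centralizer_iff.1 (real_centralizes hC hs hG hu hxD hxc hxu) y hy).symm
  -- the second swapper and its pair
  set w := y * u * y⁻¹ with hw
  have hw2 : orderOf w = 2 := by rw [hw, TwoFusionB.orderOf_conj_eq, hu.inv]
  set c' := (y * y) • c with hc'
  have huy : u * y⁻¹ = y * u := by rw [← hyu]; simp [← mul_assoc, huu]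
  have hwc : w • c = c' := by
    rw [hw, hc', mul_assoc, huy, ← mul_assoc, mul_smul, hu.centre]
  have hwm : w • (y • c) = y • c := by
    rw [hw, mul_smul, mul_smul, inv_smul_smul, hu.centre]
  have hne : c ≠ c' := fun e =>
    hyc (TwoFusionB.fix_unique hC.se hw2 hwm (hwc.trans e.symm))
  have hS : Swap H w c c' (y • c) := ⟨hw2, hne, hwc, hwm⟩
  have hxm : x • (y • c) = y • c := by rw [← mul_smul, hyx, mul_smul, hxc]
  have hxc' : x • c' = c' := by
    rw [hc', ← mul_smul, show x * (y * y) = y * y * x by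
      rw [← mul_assoc, hyx, mul_assoc, hyx, ← mul_assoc], mul_smul, hxc]
  have hxD' : x ∈ stab2 c c' :=
    mem_inf.2 ⟨mem_stabilizer_iff.2 hxc, mem_stabilizer_iff.2 hxc'⟩
  have hxw : w * x * w = x⁻¹ := by
    have e : y⁻¹ * x * y = x := by rw [mul_assoc, hyx, inv_mul_cancel_left]
    have hxy' : x⁻¹ * y = y * x⁻¹ := (show Commute x y from hyx).inv_left.eq
    calc w * x * w = y * (u * (y⁻¹ * x * y) * u) * y⁻¹ := by rw [hw]; group
      _ = x⁻¹ := by rw [e, hxu, ← hxy', mul_inv_cancel_right]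
  have hcen := real_centralizes hC hs hG hS hxD' hxm hxw
  -- a Sylow subgroup of the odd group at `c` fixes exactly `c` and `c'`
  set C := centralizer ({x} : Set G) with hCdef
  set W := C ⊓ stabilizer G c with hW
  have hS'W : op s (stab2 c c') ≤ W := fun t ht => mem_inf.2
    ⟨mem_centralizer_singleton_iff.2 (mem_centralizer_iff.1 hcen t ht),
      (mem_inf.1 (op_le _ _ ht)).1⟩
  obtain ⟨P, hP⟩ := (((op_isPGroup s (stab2 c c')).comap_subtype (K := W))).exists_le_sylow
  set R := (P : Subgroup W).map W.subtype with hR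
  have hRW : R ≤ W := map_subtype_le _
  have hS'R : op s (stab2 c c') ≤ R := fun t ht =>
    ⟨⟨t, hS'W ht⟩, hP (mem_subgroupOf.2 ht), rfl⟩
  have hfixR : ∀ p ∈ fixSet H R, p = c ∨ p = c' := by
    intro p hp
    by_contra hno
    push Not at hno
    obtain ⟨t, ht, htp⟩ := exists_move_core hA hne hno.1 hno.2
    exact htp (hp t (hS'R ht))
  have hcR : c ∈ fixSet H R := fun t ht => mem_stabilizer_iff.1 (mem_inf.1 (hRW ht)).2
  have hc'R : c' ∈ fixSet H R := by
    obtain ⟨A, -, hAp, -, -, hAfix⟩ := hA a b hu.ne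
    obtain ⟨p, hp, hpc⟩ := exists_second_fixed hAp (P.isPGroup'.map _ : IsPGroup s R) hu.ne hAfix hcR
    rcases hfixR p hp with h | h
    · exact absurd h hpc
    · exact h ▸ hp
  -- an element of odd order exchanging the two points
  set g := y * y with hg
  have hgC : g ∈ C := mem_centralizer_singleton_iff.2 (by
    rw [hg, ← mul_assoc x, hyx, mul_assoc y x, hyx, ← mul_assoc])
  set P' := R.map (MulAut.conj g⁻¹).toMonoidHom with hP'
  have hP'W : P' ≤ W := by
    rintro _ ⟨t, ht, rfl⟩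
    refine mem_inf.2 ⟨?_, ?_⟩
    · show g⁻¹ * t * g⁻¹⁻¹ ∈ C
      exact mul_mem (mul_mem (inv_mem hgC) (mem_inf.1 (hRW ht)).1) (inv_mem (inv_mem hgC))
    · show g⁻¹ * t * g⁻¹⁻¹ ∈ stabilizer G c
      rw [mem_stabilizer_iff, inv_inv, mul_smul, mul_smul, inv_smul_eq_iff]
      exact hc'R t ht
  obtain ⟨Q, hQ⟩ := ((((P.isPGroup'.map _ : IsPGroup s R).map _ : IsPGroup s P')).comap_subtype
    (K := W)).exists_le_sylow
  obtain ⟨k, hk⟩ := MulAction.exists_smul_eq W Q P
  set n := (k : G) * g⁻¹ with hn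
  have hnR : ∀ t ∈ R, n * t * n⁻¹ ∈ R := by
    intro t ht
    have htQ : (⟨g⁻¹ * t * g⁻¹⁻¹, hP'W ⟨t, ht, rfl⟩⟩ : W) ∈ (Q : Subgroup W) :=
      hQ (mem_subgroupOf.2 ⟨t, ht, rfl⟩)
    refine ⟨k * ⟨g⁻¹ * t * g⁻¹⁻¹, hP'W ⟨t, ht, rfl⟩⟩ * k⁻¹, ?_, ?_⟩
    · rw [SetLike.mem_coe, ← hk, Sylow.smul_def]
      exact ⟨_, htQ, rfl⟩
    · simp [hn, mul_assoc]
  have hmove : ∀ p ∈ fixSet H R, n⁻¹ • p ∈ fixSet H R := by
    intro p hp t ht
    have h := hp _ (hnR t ht)
    rw [mul_smul, mul_smul] at h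
    rwa [eq_inv_smul_iff]
  have hkc : (k : G) • c = c := mem_stabilizer_iff.1 (mem_inf.1 k.2).2
  have hnc : n⁻¹ • c = c' := by
    rw [hn, mul_inv_rev, inv_inv, mul_smul, inv_smul_eq_iff.2 hkc.symm]
  have hnc' : n⁻¹ • c' = c := by
    rcases hfixR _ (hmove c' hc'R) with h | h
    · exact h
    · exact absurd (smul_left_cancel n⁻¹ (hnc.trans h.symm)) hne
  have hnC : n⁻¹ ∈ C := inv_mem (mul_mem (mem_inf.1 k.2).1 (inv_mem hgC))
  obtain ⟨j, hj⟩ := RankOne.odd_orderOf_of_mem hodd hnC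
  have hsq : ∀ i : ℕ, (n⁻¹ * n⁻¹) ^ i • c = c := fun i =>
    mem_stabilizer_iff.1 (pow_mem (mem_stabilizer_iff.2 (by rw [mul_smul, hnc, hnc'])) i)
  refine hne ?_
  conv_lhs => rw [← one_smul G c, ← pow_orderOf_eq_one n⁻¹, hj, pow_succ', pow_mul, pow_two]
  rw [mul_smul, hsq, hnc]

/-- Without real elements fixing centres every prime is good. -/
theorem goodAt_of_noRealFixed (hC : Ctx H) (hN : NoRealFixed H) (r : ℕ) : GoodAt H r := by
  intro X _ h3 v hv hvX ⟨c, hc, hvc⟩
  have hvv : v * v = 1 := TwoFusionB.sq_eq_one_of_inv hv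
  have hvi : v⁻¹ = v := TwoFusionB.inv_eq_of_inv hv
  obtain ⟨p, hp, hpc⟩ : ∃ p ∈ fixSet H X, p ≠ c := by
    obtain ⟨a, ha, b, hb, -, -, hab, -, -⟩ := h3
    rcases eq_or_ne a c with rfl | h
    · exact ⟨b, hb, hab.symm⟩
    · exact ⟨a, ha, h⟩
  have hvp : p ≠ v • p := fun e => hpc (TwoFusionB.fix_unique hC.se hv e.symm hvc)
  rw [mem_centralizer_iff]
  intro x hx
  have hy : x⁻¹ * (v * x * v) ∈ X := by
    refine mul_mem (inv_mem hx) ?_
    have h := (mem_normalizer_iff.1 hvX x).1 hx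
    rwa [hvi] at h
  have hy1 := hN v _ p (v • p) c ⟨hv, hvp, rfl, hvc⟩ (hp _ hy)
    ((smul_mem_fixSet hvX hp) _ hy) (hc _ hy)
    (by rw [mul_inv_rev, mul_inv_rev, mul_inv_rev, inv_inv, hvi]; simp [mul_assoc, hvv])
  have h : x = v * x * v := inv_mul_eq_one.1 hy1
  show x * v = v * x
  conv_lhs => rw [h]
  rw [mul_assoc _ v v, hvv, mul_one]

end Cfsg.Agent.Bender36
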